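import Mathlib
import Groth.Agent.AWNLib.Scheme
import Groth.Agent.AWNLib.SNTensor
import Groth.Agent.DevissLib.ClosedImm

/-!
# Universal homeomorphisms with trivial residue extensions over seminormal schemes have sections
-/

set_option autoImplicit false
set_option linter.style.haveILetI false
set_option backward.isDefEq.respectTransparency false

universe u

open CategoryTheory CategoryTheory.Limits AlgebraicGeometry

namespace SNSectLib

theorem univHomeo_baseChange : MorphismProperty.IsStableUnderBaseChange FlatMor.IsUnivHomeo.{u} :=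
  MorphismProperty.universally_isStableUnderBaseChange _

theorem univHomeo_respectsIso : MorphismProperty.RespectsIso FlatMor.IsUnivHomeo.{u} :=
  MorphismProperty.universally_respectsIso _

theorem univHomeo_comp {X Y Z : Scheme.{u}} {f : X ⟶ Y} {g : Y ⟶ Z} (hf : FlatMor.IsUnivHomeo f)
    (hg : FlatMor.IsUnivHomeo g) : FlatMor.IsUnivHomeo (f ≫ g) := by
  obtain ⟨a, b, c⟩ := (Groth.Agent.S0415.result f).1 hf
  obtain ⟨a', b', c'⟩ := (Groth.Agent.S0415.result g).1 hg
  exact (Groth.Agent.S0415.result _).2 ⟨inferInstance, MorphismProperty.comp_mem _ _ _ b b', inferInstance⟩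

/-- Preimmersions do not change residue fields. -/
theorem isIso_residueFieldMap_preimmersion {X Y : Scheme.{u}} (f : X ⟶ Y) [IsPreimmersion f] (x : X) :
    IsIso (f.residueFieldMap x) := by
  refine (ConcreteCategory.isIso_iff_bijective _).mpr ⟨RingHom.injective _, fun a => ?_⟩
  obtain ⟨a, rfl⟩ := IsLocalRing.residue_surjective a
  obtain ⟨b, rfl⟩ := f.stalkMap_surjective x a
  exact ⟨IsLocalRing.residue _ b, rfl⟩

theorem rfi_of_preimmersion {X Y : Scheme.{u}} (f : X ⟶ Y) [IsPreimmersion f] : HTop.ResidueFieldsIso f :=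
  isIso_residueFieldMap_preimmersion f

theorem rfi_of_isIso {X Y : Scheme.{u}} (f : X ⟶ Y) [IsIso f] : HTop.ResidueFieldsIso f :=
  rfi_of_preimmersion f

theorem rfi_comp {X Y Z : Scheme.{u}} {f : X ⟶ Y} {g : Y ⟶ Z} (hf : HTop.ResidueFieldsIso f)
    (hg : HTop.ResidueFieldsIso g) : HTop.ResidueFieldsIso (f ≫ g) := fun x => by
  rw [Scheme.residueFieldMap_comp]
  have := hf x
  have := hg (f x)
  infer_instance

/-- A base change of a universal homeomorphism with trivial residue extensions has trivial residue extensions. -/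
theorem rfi_of_isPullback {P X Y Z : Scheme.{u}} {fst : P ⟶ X} {snd : P ⟶ Y} {f : X ⟶ Z} {g : Y ⟶ Z}
    (sq : IsPullback fst snd f g) (hu : FlatMor.IsUnivHomeo f) (hf : HTop.ResidueFieldsIso f) :
    HTop.ResidueFieldsIso snd := by
  haveI := univHomeo_baseChange.{u}
  obtain ⟨-, hinj, -⟩ := (Groth.Agent.S0415.result snd).1 (MorphismProperty.of_isPullback (P := FlatMor.IsUnivHomeo) sq hu)
  obtain ⟨-, -, hsurj⟩ := (Groth.Agent.S0415.result f).1 hu
  haveI := hinj
  intro p
  obtain ⟨x, hx⟩ := hsurj.surj (g (snd p))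
  haveI := hf x
  let c : Spec (Y.residueField (snd p)) ⟶ X :=
    Spec.map (g.residueFieldMap (snd p)) ≫ Spec.map (Z.residueFieldCongr hx).hom ≫
      Spec.map (inv (f.residueFieldMap x)) ≫ X.fromSpecResidueField x
  have hc : c ≫ f = Y.fromSpecResidueField (snd p) ≫ g := by
    simp only [c, Category.assoc]
    rw [← Scheme.Hom.SpecMap_residueFieldMap_fromSpecResidueField f x, ← Spec.map_comp_assoc (f.residueFieldMap x) (inv (f.residueFieldMap x)), IsIso.hom_inv_id, Spec.map_id,
      Category.id_comp, Scheme.residueFieldCongr_fromSpecResidueField hx,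
      Scheme.Hom.SpecMap_residueFieldMap_fromSpecResidueField]
  let σ := sq.lift c (Y.fromSpecResidueField (snd p)) hc
  let z : Spec (Y.residueField (snd p)) := IsLocalRing.closedPoint (Y.residueField (snd p))
  have hp : σ z = p := snd.injective (by
    rw [← Scheme.Hom.comp_apply, sq.lift_snd]
    exact Scheme.fromSpecResidueField_apply (snd p) z)
  have h : IsIso ((σ ≫ snd).residueFieldMap z) := by
    haveI : IsPreimmersion (σ ≫ snd) := by rw [sq.lift_snd]; infer_instance
    exact isIso_residueFieldMap_preimmersion _ _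
  rw [Scheme.residueFieldMap_comp] at h
  have hb : Function.Bijective (σ.residueFieldMap z).hom := by
    refine ⟨RingHom.injective _, fun y => ?_⟩
    obtain ⟨w, hw⟩ := ((ConcreteCategory.isIso_iff_bijective _).1 h).2 y
    exact ⟨snd.residueFieldMap (σ z) w, hw⟩
  haveI : IsIso (σ.residueFieldMap z) := (ConcreteCategory.isIso_iff_bijective _).2 hb
  haveI := h
  rw [← hp]
  exact IsIso.of_isIso_comp_right _ (σ.residueFieldMap z)

/-- Over a seminormal ring a reduced universal homeomorphism with trivial residue extensions is trivial. -/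
theorem bijective_of_seminormalRing {C W : Type u} [CommRing C] [CommRing W] [_root_.IsReduced W] (g : C →+* W)
    (hC : HTop.IsSeminormalRing C) (hg : FlatMor.IsUnivHomeo (Spec.map (CommRingCat.ofHom g)))
    (hr : HTop.ResidueFieldsIso (Spec.map (CommRingCat.ofHom g))) : Function.Bijective g := by
  have := AWNLib.isReduced_of_isSeminormalRing hC
  obtain ⟨-, hs, -⟩ := (AWNLib.univHomeo_iff g).1 hg
  refine ⟨(injective_iff_map_eq_zero g).2 fun c hc => (AWNLib.isNilpotent_of_surjective_comap g hs hc).eq_zero,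
    fun z => ?_⟩
  exact RingHom.mem_range.1 (AWNLib.mem_range_of_RF g hC hg z fun Q =>
    (AWNLib.residueFieldMap_surjective_iff g).1 (fun x => ((ConcreteCategory.isIso_iff_bijective _).1 (hr x)).2) Q z)

/-- Over a seminormal scheme a reduced universal homeomorphism with trivial residue extensions is an isomorphism. -/
theorem isIso_of_isSeminormal {X Y : Scheme.{u}} (hX : HTop.IsSeminormal X) [AlgebraicGeometry.IsReduced Y]
    (π : Y ⟶ X) (hπ : FlatMor.IsUnivHomeo π) (hr : HTop.ResidueFieldsIso π) : IsIso π := by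
  obtain ⟨hi, -, -⟩ := (Groth.Agent.S0415.result π).1 hπ
  change MorphismProperty.isomorphisms Scheme.{u} π
  rw [IsZariskiLocalAtTarget.iff_of_iSup_eq_top (P := MorphismProperty.isomorphisms Scheme.{u})
    (fun U : X.affineOpens => U.1) (iSup_affineOpens_eq_top X)]
  intro U
  have hV : IsAffineOpen (π ⁻¹ᵁ U.1) := U.2.preimage π
  have e : Spec.map (π.app U.1) = hV.isoSpec.inv ≫ (π ∣_ U.1) ≫ U.2.isoSpec.hom := by
    rw [← cancel_mono U.2.fromSpec]
    simp only [Category.assoc, IsAffineOpen.isoSpec_hom_fromSpec, morphismRestrict_ι,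
      IsAffineOpen.isoSpec_inv_ι_assoc, Scheme.Hom.app_eq_appLE]
    exact IsAffineOpen.SpecMap_appLE_fromSpec π U.2 hV _
  have hrf : HTop.ResidueFieldsIso (Spec.map (π.app U.1)) := by
    rw [e]
    exact rfi_comp (rfi_of_isIso _) (rfi_comp (rfi_of_isPullback (isPullback_morphismRestrict π U.1).flip hπ hr)
      (rfi_of_isIso _))
  have hbij : Function.Bijective (π.app U.1).hom :=
    bijective_of_seminormalRing (π.app U.1).hom ((AWNLib.isSeminormal_iff (X := X)).1 hX U)
      (AWNLib.univHomeo_app π hπ U.1 U.2) hrf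
  haveI : IsIso (π.app U.1) := (ConcreteCategory.isIso_iff_bijective _).2 hbij
  have e' : π ∣_ U.1 = hV.isoSpec.hom ≫ Spec.map (π.app U.1) ≫ U.2.isoSpec.inv := by
    rw [e]; simp
  show IsIso (π ∣_ U.1)
  rw [e']
  infer_instance

/-- A seminormal scheme is reduced. -/
theorem isReduced_of_isSeminormal {X : Scheme.{u}} (hX : HTop.IsSeminormal X) : AlgebraicGeometry.IsReduced X := by
  haveI : ∀ i, AlgebraicGeometry.IsReduced
      ((X.openCoverOfIsOpenCover (fun U : X.affineOpens => U.1) (iSup_affineOpens_eq_top X)).X i) :=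
    fun (U : X.affineOpens) => by
    haveI := AWNLib.isReduced_of_isSeminormalRing ((AWNLib.isSeminormal_iff (X := X)).1 hX U)
    exact isReduced_of_isOpenImmersion U.2.isoSpec.hom
  exact IsReduced.of_openCover (𝒰 := X.openCoverOfIsOpenCover (fun U : X.affineOpens => U.1) (iSup_affineOpens_eq_top X))

/-- A universal homeomorphism with trivial residue extensions over a seminormal scheme has a section. -/
theorem exists_section {X Y : Scheme.{u}} (hX : HTop.IsSeminormal X) (π : Y ⟶ X) (hπ : FlatMor.IsUnivHomeo π)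
    (hr : HTop.ResidueFieldsIso π) : ∃ s : X ⟶ Y, s ≫ π = 𝟙 X := by
  let I := Scheme.IdealSheafData.vanishingIdeal (⊤ : TopologicalSpace.Closeds Y)
  haveI : AlgebraicGeometry.IsReduced I.subscheme := DevissLib.isReduced_vanishingIdeal' _
  haveI : Surjective I.subschemeι := ⟨Set.range_eq_univ.1
    (I.range_subschemeι.trans (Scheme.IdealSheafData.coe_support_vanishingIdeal ⊤))⟩
  have hu : FlatMor.IsUnivHomeo I.subschemeι :=
    (Groth.Agent.S0415.result _).2 ⟨inferInstance, inferInstance, inferInstance⟩
  haveI := isIso_of_isSeminormal hX (I.subschemeι ≫ π) (univHomeo_comp hu hπ)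
    (rfi_comp (rfi_of_preimmersion _) hr)
  exact ⟨inv (I.subschemeι ≫ π) ≫ I.subschemeι, by rw [Category.assoc, IsIso.inv_hom_id]⟩

end SNSectLib
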