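import Mathlib
import Groth.Agent.SNSectLib.Basic
import Groth.Agent.S15941
import Groth.Prelude.Def_Pi1

/-!
# Normal schemes are seminormal
-/

set_option autoImplicit false
set_option linter.style.haveILetI false
set_option backward.isDefEq.respectTransparency false

universe u

open CategoryTheory AlgebraicGeometry

namespace SNSectLib

/-- Seminormality may be checked on the local rings. -/
theorem isSeminormalRing_of_localRings {A : Type u} [CommRing A] [_root_.IsReduced A]
    (h : ∀ P : PrimeSpectrum A, ∃ (L : Type u) (_ : CommRing L) (_ : Algebra A L),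
      IsLocalization P.asIdeal.primeCompl L ∧ HTop.IsSeminormalRing L) : HTop.IsSeminormalRing A := by
  intro x y hxy
  have hP : ∀ P, ∃ w, AWNLib.diag A x P = w ^ 2 ∧ AWNLib.diag A y P = w ^ 3 := by
    intro P
    have e : AWNLib.diag A x P ^ 3 = AWNLib.diag A y P ^ 2 :=
      congrFun (by rw [← map_pow, ← map_pow, hxy] : AWNLib.diag A x ^ 3 = AWNLib.diag A y ^ 2) P
    by_cases hx : AWNLib.diag A x P = 0
    · rw [hx, zero_pow three_ne_zero, eq_comm, pow_eq_zero_iff two_ne_zero] at e
      exact ⟨0, by rw [hx, zero_pow two_ne_zero], by rw [e, zero_pow three_ne_zero]⟩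
    · refine ⟨AWNLib.diag A y P / AWNLib.diag A x P, ?_, ?_⟩
      · rw [div_pow, ← e]
        field_simp
      · rw [div_pow, e]
        field_simp
  choose c hc2 hc3 using hP
  let s : Set A := {f | ∃ b, b ^ 2 = x * f ^ 2 ∧ b ^ 3 = y * f ^ 3}
  have hs : Ideal.span s = ⊤ := by
    by_contra hne
    obtain ⟨m, hm, hle⟩ := Ideal.exists_le_maximal _ hne
    obtain ⟨L, hcr, halg, hloc, hsn⟩ := h ⟨m, hm.isPrime⟩
    letI := hcr; letI := halg; haveI := hloc
    obtain ⟨z, ⟨hz2, hz3⟩, -⟩ := hsn (algebraMap A L x) (algebraMap A L y) (by rw [← map_pow, ← map_pow, hxy])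
    obtain ⟨⟨b, f⟩, hbf⟩ := IsLocalization.surj m.primeCompl z
    have e2 : algebraMap A L (b ^ 2) = algebraMap A L (x * (f : A) ^ 2) := by
      rw [map_pow, map_mul, map_pow, hz2, ← hbf, mul_pow]
    have e3 : algebraMap A L (b ^ 3) = algebraMap A L (y * (f : A) ^ 3) := by
      rw [map_pow, map_mul, map_pow, hz3, ← hbf, mul_pow]
    obtain ⟨t₂, ht₂⟩ := (IsLocalization.eq_iff_exists m.primeCompl L).1 e2
    obtain ⟨t₃, ht₃⟩ := (IsLocalization.eq_iff_exists m.primeCompl L).1 e3
    refine (f * (t₂ * t₃) : m.primeCompl).2 (hle (Ideal.subset_span ⟨b * ((t₂ : A) * t₃), ?_, ?_⟩))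
    · simp only [Submonoid.coe_mul]
      linear_combination ((t₂ : A) * (t₃ : A) ^ 2) * ht₂
    · simp only [Submonoid.coe_mul]
      linear_combination ((t₂ : A) ^ 3 * (t₃ : A) ^ 2) * ht₃
  obtain ⟨a, ha⟩ := AWNLib.mem_range_of_local c s hs fun f hf => by
    obtain ⟨b, hb2, hb3⟩ := hf
    refine ⟨1, b, funext fun P => ?_⟩
    rw [pow_one, Pi.mul_apply]
    refine AWNLib.eq_of_sq_cube ?_ ?_
    · rw [mul_pow, ← hc2, ← Pi.pow_apply, ← Pi.pow_apply (AWNLib.diag A b), ← map_pow, ← map_pow, hb2, map_mul,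
        Pi.mul_apply, mul_comm]
    · rw [mul_pow, ← hc3, ← Pi.pow_apply, ← Pi.pow_apply (AWNLib.diag A b), ← map_pow, ← map_pow, hb3, map_mul,
        Pi.mul_apply, mul_comm]
  have a2 : x = a ^ 2 :=
    AWNLib.diag_injective (funext fun P => by rw [map_pow, Pi.pow_apply, ha]; exact hc2 P)
  have a3 : y = a ^ 3 :=
    AWNLib.diag_injective (funext fun P => by rw [map_pow, Pi.pow_apply, ha]; exact hc3 P)
  exact ⟨a, ⟨a2, a3⟩, fun b hb => AWNLib.eq_of_sq_cube_reduced (hb.1.symm.trans a2) (hb.2.symm.trans a3)⟩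

/-- Normal schemes are seminormal. -/
theorem isSeminormal_of_normal {X : Scheme.{u}} (hX : Pi1.IsNormalScheme X) : HTop.IsSeminormal X := by
  haveI : ∀ x : X, _root_.IsReduced (X.presheaf.stalk x) := fun x => by
    haveI := (hX x).1
    infer_instance
  haveI : AlgebraicGeometry.IsReduced X := isReduced_of_isReduced_stalk X
  refine (AWNLib.isSeminormal_iff (X := X)).2 fun U => ?_
  haveI : _root_.IsReduced Γ(X, U.1) := IsReduced.component_reduced U.1
  refine isSeminormalRing_of_localRings fun P => ?_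
  let x : X := U.2.fromSpec P
  have hx : x ∈ U.1 := U.2.range_fromSpec.le ⟨P, rfl⟩
  letI := TopCat.Presheaf.algebra_section_stalk X.presheaf ⟨x, hx⟩
  haveI := (hX x).1
  haveI := (hX x).2
  exact ⟨X.presheaf.stalk x, inferInstance, inferInstance, U.2.isLocalization_stalk' P hx,
    Groth.Agent.S15941.result _⟩

end SNSectLib
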